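import Mathlib
import Cfsg.Prelude.Def_Classical

/-!
Symmetric groups inside orthogonal groups over the field of two elements, from the permutation module.
-/

set_option autoImplicit false

namespace Cfsg.Agent.F2Perm

open Matrix

local notation "K" => ZMod 2

variable {ι : Type} [Fintype ι] [DecidableEq ι] {n : ℕ}

/-- Half weight modulo two. -/
def halfWt (w : Fin n → K) : K := (((∑ i, (w i).val) / 2 : ℕ) : K)

theorem halfWt_perm (σ : Equiv.Perm (Fin n)) (w : Fin n → K) : halfWt (fun i => w (σ i)) = halfWt w := by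
  rw [halfWt, halfWt, Equiv.sum_comp σ fun i => (w i).val]

/-- The data of a coordinatisation of the even part of the permutation module. -/
structure Data (n : ℕ) (T : Matrix (Fin n) ι K) (P : Matrix ι (Fin n) K) (Q : (ι → K) → K) : Prop where
  even : ∀ v, ∑ i, (T *ᵥ v) i = 0
  left : ∀ v, P *ᵥ (T *ᵥ v) = v
  right : ∀ w : Fin n → K, ∑ i, w i = 0 → T *ᵥ (P *ᵥ w) = w ∨
    (P *ᵥ (fun _ => 1) = 0 ∧ T *ᵥ (P *ᵥ w) = w + fun _ => 1)
  form : ∀ v, Q v = halfWt (T *ᵥ v)
  shift : ∀ w : Fin n → K, ∑ i, w i = 0 → P *ᵥ (fun _ => 1) = 0 → halfWt (w + fun _ => 1) = halfWt w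

variable {T : Matrix (Fin n) ι K} {P : Matrix ι (Fin n) K} {Q : (ι → K) → K}

/-- Permuting coordinates. -/
def permLin (σ : Equiv.Perm (Fin n)) : (Fin n → K) →ₗ[K] (Fin n → K) := LinearMap.funLeft K K ⇑σ.symm

theorem permLin_apply (σ : Equiv.Perm (Fin n)) (w : Fin n → K) (i : Fin n) :
    permLin σ w i = w (σ.symm i) := rfl

variable (T P) in
/-- The induced map. -/
def act (σ : Equiv.Perm (Fin n)) : (ι → K) →ₗ[K] (ι → K) :=
  (Matrix.toLin' P).comp ((permLin σ).comp (Matrix.toLin' T))

theorem act_apply (σ : Equiv.Perm (Fin n)) (v : ι → K) :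
    act T P σ v = P *ᵥ (permLin σ (T *ᵥ v)) := rfl

theorem Data.act_mul (h : Data n T P Q) (σ τ : Equiv.Perm (Fin n)) :
    act T P (σ * τ) = (act T P σ).comp (act T P τ) := by
  refine LinearMap.ext fun v => ?_
  rw [LinearMap.comp_apply, act_apply, act_apply, act_apply]
  have hev : ∑ i, permLin τ (T *ᵥ v) i = 0 := by
    simp only [permLin_apply]
    rw [Equiv.sum_comp τ.symm]
    exact h.even v
  have hmul : ∀ w : Fin n → K, permLin (σ * τ) w = permLin σ (permLin τ w) := fun w => rfl
  rcases h.right _ hev with e | ⟨e1, e⟩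
  · rw [e, hmul]
  · rw [e, map_add, Matrix.mulVec_add, hmul,
      show permLin σ (fun _ => (1 : K)) = fun _ => 1 from rfl, e1, add_zero]

theorem Data.act_one (h : Data n T P Q) : act T P 1 = LinearMap.id :=
  LinearMap.ext fun v => h.left v

theorem Data.act_form (h : Data n T P Q) (σ : Equiv.Perm (Fin n)) (v : ι → K) :
    Q (act T P σ v) = Q v := by
  have hev : ∑ i, permLin σ (T *ᵥ v) i = 0 := by
    simp only [permLin_apply]
    rw [Equiv.sum_comp σ.symm]
    exact h.even v
  rw [h.form, h.form, act_apply]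
  rcases h.right _ hev with e | ⟨e1, e⟩
  · rw [e]; exact halfWt_perm σ.symm (T *ᵥ v)
  · rw [e, h.shift _ hev e1]; exact halfWt_perm σ.symm (T *ᵥ v)

/-- The homomorphism into the isometry group. -/
noncomputable def Data.hom (h : Data n T P Q) : Equiv.Perm (Fin n) →* Cfsg.isometryGroup K Q :=
  let f : Equiv.Perm (Fin n) →* GL ι K :=
    MonoidHom.toHomUnits
      { toFun := fun σ => LinearMap.toMatrix' (act T P σ)
        map_one' := by rw [h.act_one, LinearMap.toMatrix'_id]
        map_mul' := fun σ τ => by rw [h.act_mul, LinearMap.toMatrix'_comp] }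
  f.codRestrict _ fun σ v _ => by
    show Q (LinearMap.toMatrix' (act T P σ) *ᵥ v) = Q v
    rw [LinearMap.toMatrix'_mulVec]
    exact h.act_form σ v

theorem Data.hom_apply (h : Data n T P Q) (σ : Equiv.Perm (Fin n)) (v : ι → K) :
    ((h.hom σ : GL ι K) : Matrix ι ι K) *ᵥ v = act T P σ v := by
  show LinearMap.toMatrix' (act T P σ) *ᵥ v = _
  rw [LinearMap.toMatrix'_mulVec]

/-- Faithfulness for at least five points. -/
theorem Data.hom_injective (h : Data n T P Q) (hn : 5 ≤ n) : Function.Injective h.hom := by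
  rw [injective_iff_map_eq_one]
  intro σ hσ
  by_contra hne
  obtain ⟨i, hi⟩ : ∃ i, σ i ≠ i := by
    by_contra hc
    push Not at hc
    exact hne (Equiv.ext hc)
  obtain ⟨l, hl⟩ : ∃ l, l ∉ ({i, σ i, σ.symm i} : Finset (Fin n)) := by
    by_contra hc
    push Not at hc
    have := (Finset.card_le_card (s := Finset.univ) fun x _ => hc x).trans Finset.card_le_three
    simp at this
    omega
  simp only [Finset.mem_insert, Finset.mem_singleton, not_or] at hl
  obtain ⟨w, hw⟩ : ∃ w : Fin n → K, w = Pi.single i 1 + Pi.single l 1 := ⟨_, rfl⟩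
  have hev : ∑ x, w x = 0 := by
    simp [hw, Finset.sum_add_distrib]
    rfl
  have hfix : P *ᵥ (permLin σ (T *ᵥ (P *ᵥ w))) = P *ᵥ w := by
    rw [← act_apply, ← h.hom_apply, hσ]
    simp
  have hev' : ∑ x, permLin σ w x = 0 := by
    simp only [permLin_apply]
    rw [Equiv.sum_comp σ.symm, hev]
  have key : P *ᵥ permLin σ w = P *ᵥ w := by
    rcases h.right w hev with e | ⟨e1, e⟩
    · rwa [e] at hfix
    · rwa [e, map_add, Matrix.mulVec_add, show permLin σ (fun _ => (1 : K)) = fun _ => 1 from rfl, e1,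
        add_zero] at hfix
  have hT : T *ᵥ (P *ᵥ permLin σ w) = T *ᵥ (P *ᵥ w) := congrArg (T *ᵥ ·) key
  obtain ⟨m, hm⟩ : ∃ m, m ∉ ({i, l, σ i, σ l} : Finset (Fin n)) := by
    by_contra hc
    push Not at hc
    have := (Finset.card_le_card (s := Finset.univ) fun x _ => hc x).trans Finset.card_le_four
    simp at this
    omega
  simp only [Finset.mem_insert, Finset.mem_singleton, not_or] at hm
  obtain ⟨hmi, hml, hmσi, hmσl⟩ := hm
  have vwi : w (σ i) = 0 := by simp [hw, hi, Ne.symm hl.2.1]
  have vσi : permLin σ w (σ i) = 1 := by simp [permLin_apply, hw, Ne.symm hl.1]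
  have vwm : w m = 0 := by simp [hw, hmi, hml]
  have vσm : permLin σ w m = 0 := by
    have h1 : σ.symm m ≠ i := fun e => hmσi (by rw [← e, Equiv.apply_symm_apply])
    have h3 : σ.symm m ≠ l := fun e => hmσl (by rw [← e, Equiv.apply_symm_apply])
    simp [permLin_apply, hw, h1, h3]
  rcases h.right _ hev' with e | ⟨-, e⟩ <;> rcases h.right _ hev with e' | ⟨-, e'⟩ <;> rw [e, e'] at hT
  · have := congrFun hT (σ i)
    rw [vwi, vσi] at this; exact one_ne_zero this
  · have := congrFun hT m
    simp only [Pi.add_apply, vwm, vσm] at this; exact absurd this (by decide)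
  · have := congrFun hT m
    simp only [Pi.add_apply, vwm, vσm] at this; exact absurd this (by decide)
  · have := congrFun hT (σ i)
    simp only [Pi.add_apply, vwi, vσi] at this; exact absurd this (by decide)

/-- Transport of the isometry group along the isomorphism with the field of two elements. -/
theorem isometryGroup_congr {F : Type*} [Field F] (e : K ≃+* F) (Q' : (ι → F) → F)
    (hQ : ∀ v : ι → K, Q' (fun i => e (v i)) = e (Q v)) :
    Nonempty (Cfsg.isometryGroup K Q ≃* Cfsg.isometryGroup F Q') := by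
  let f : GL ι K ≃* GL ι F := Units.mapEquiv (e.mapMatrix (m := ι)).toMulEquiv
  have hmap : ∀ (g : GL ι K) (v : ι → K),
      ((f g : GL ι F) : Matrix ι ι F) *ᵥ (fun i => e (v i)) = fun i => e (((g : Matrix ι ι K) *ᵥ v) i) := by
    intro g v
    funext i
    exact (RingHom.map_mulVec (e : K →+* F) (g : Matrix ι ι K) v i).symm
  refine ⟨(f.subgroupMap (Cfsg.isometryGroup K Q)).trans (MulEquiv.subgroupCongr (Subgroup.ext fun g => ?_))⟩
  obtain ⟨g, rfl⟩ := f.surjective g
  refine (Subgroup.mem_map_iff_mem f.injective).trans ?_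
  constructor
  · intro hg v _
    obtain ⟨u, rfl⟩ : ∃ u : ι → K, (fun i => e (u i)) = v := ⟨fun i => e.symm (v i), funext fun i => e.apply_symm_apply _⟩
    show Q' (((f g : GL ι F) : Matrix ι ι F) *ᵥ fun i => e (u i)) = Q' fun i => e (u i)
    rw [hmap, hQ, hQ]
    exact congrArg e (hg u u)
  · intro hg v _
    have h1 : Q' (((f g : GL ι F) : Matrix ι ι F) *ᵥ fun i => e (v i)) = Q' fun i => e (v i) := hg _ (fun i => e (v i))
    rw [hmap, hQ, hQ] at h1
    exact e.injective h1

end Cfsg.Agent.F2Perm
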